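import Groth.Prelude.Def_W4c2movlemaddchowShuffle
import Mathlib.Data.Fin.Tuple.Sort
import Mathlib.Tactic

/-!
# Factorisation of three-block shuffles into two-block shuffles
-/

open Equiv

namespace Groth.Agent.ShuffleLib

theorem bijOn_factor {a N r s t : ℕ} (e : Fin a → Fin N) (he : Function.Injective e)
    (ext : Perm (Fin a) → Perm (Fin N)) (hext : ∀ σ i, ext σ (e i) = e (σ i))
    (hfix : ∀ σ x, x ∉ Set.range e → ext σ x = x)
    (b1 : Fin r → Fin a) (b2 : Fin s → Fin a) (f : Fin t → Fin N) (hf : ∀ l, f l ∉ Set.range e) :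
    Set.BijOn (fun p : Perm (Fin N) × Perm (Fin a) => p.1 * ext p.2)
      ({τ : Perm (Fin N) | Monotone (⇑τ ∘ e) ∧ Monotone (⇑τ ∘ f)} ×ˢ
        {σ : Perm (Fin a) | Monotone (⇑σ ∘ b1) ∧ Monotone (⇑σ ∘ b2)})
      {ν : Perm (Fin N) | Monotone (⇑ν ∘ e ∘ b1) ∧ Monotone (ν ∘ e ∘ b2) ∧ Monotone (ν ∘ f)} := by
  refine ⟨?_, ?_, ?_⟩
  · rintro ⟨τ, σ⟩ ⟨⟨h1, h2⟩, h3, h4⟩
    refine ⟨?_, ?_, ?_⟩
    · intro i j hij
      simp only [Function.comp_apply, Perm.mul_apply, hext]
      exact h1 (h3 hij)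
    · intro i j hij
      simp only [Function.comp_apply, Perm.mul_apply, hext]
      exact h1 (h4 hij)
    · intro i j hij
      simp only [Function.comp_apply, Perm.mul_apply, hfix _ _ (hf _)]
      exact h2 hij
  · rintro ⟨τ, σ⟩ ⟨⟨h1, -⟩, -⟩ ⟨τ', σ'⟩ ⟨⟨h1', -⟩, -⟩ heq
    have hv : ∀ x, τ (ext σ x) = τ' (ext σ' x) := fun x => Perm.congr_fun heq x
    have hinj : Function.Injective (τ ∘ e ∘ σ) := τ.injective.comp (he.comp σ.injective)
    have hu := Tuple.unique_monotone (f := τ ∘ e ∘ σ) (σ := σ⁻¹) (τ := σ'⁻¹)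
      (by intro i j hij; simpa using h1 hij)
      (by
        intro i j hij
        have hh : ∀ i, (τ ∘ e ∘ σ) (σ'⁻¹ i) = τ' (e i) := fun i => by
          have := hv (e (σ'⁻¹ i)); simpa [hext] using this
        simp only [Function.comp_apply] at hh ⊢
        rw [hh, hh]
        exact h1' hij)
    have hσ : σ = σ' := inv_injective (Equiv.ext fun i => hinj (congrFun hu i))
    subst hσ
    simp only [Prod.mk.injEq, and_true]
    exact mul_right_cancel heq
  · rintro ν ⟨h1, h2, h3⟩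
    let π := Tuple.sort (ν ∘ e)
    have hm : Monotone ((ν ∘ e) ∘ π) := Tuple.monotone_sort _
    have hs : StrictMono ((ν ∘ e) ∘ π) :=
      hm.strictMono_of_injective ((ν.injective.comp he).comp π.injective)
    have hmul : ∀ x, ext π (ext π⁻¹ x) = x := fun x => by
      by_cases hx : x ∈ Set.range e
      · obtain ⟨i, rfl⟩ := hx; simp [hext]
      · rw [hfix _ _ hx, hfix _ _ hx]
    refine ⟨(ν * ext π, π⁻¹), ⟨⟨?_, ?_⟩, ?_, ?_⟩, ?_⟩
    · intro i j hij
      simp only [Function.comp_apply, Perm.mul_apply, hext]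
      exact hm hij
    · intro i j hij
      simp only [Function.comp_apply, Perm.mul_apply, hfix _ _ (hf _)]
      exact h3 hij
    · intro i j hij
      refine hs.le_iff_le.1 ?_
      simpa using h1 hij
    · intro i j hij
      refine hs.le_iff_le.1 ?_
      simpa using h2 hij
    · exact Equiv.ext fun x => by simp [hmul]

open W4c2movlemaddchow

theorem extRight_castAdd (a t : ℕ) (σ : Perm (Fin a)) (i : Fin a) :
    extRight a t σ (Fin.castAdd t i) = Fin.castAdd t (σ i) := by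
  simp [extRight, Equiv.permCongr_apply]

theorem extRight_fix (a t : ℕ) (σ : Perm (Fin a)) (x : Fin (a + t))
    (hx : x ∉ Set.range (Fin.castAdd t : Fin a → Fin (a + t))) : extRight a t σ x = x := by
  induction x using Fin.addCases with
  | left i => exact absurd ⟨i, rfl⟩ hx
  | right j => simp [extRight, Equiv.permCongr_apply]

theorem bijOn_extRight (r s t : ℕ) :
    Set.BijOn (fun p : Perm (Fin (r + s + t)) × Perm (Fin (r + s)) => p.1 * extRight (r + s) t p.2)
      ({τ | IsShuffle₂ (r + s) t τ} ×ˢ {σ | IsShuffle₂ r s σ}) {ν | IsShuffle₃ r s t ν} :=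
  bijOn_factor (Fin.castAdd t) (Fin.castAdd_injective _ t) _ (extRight_castAdd _ t) (extRight_fix _ t)
    (Fin.castAdd s) (Fin.natAdd r) (Fin.natAdd (r + s))
    (by rintro l ⟨i, hi⟩; have := congrArg Fin.val hi; simp at this; omega)

theorem extLeft_natAdd (r s t : ℕ) (σ : Perm (Fin (s + t))) (j : Fin (s + t)) :
    extLeft r s t σ (Fin.cast (Nat.add_assoc r s t).symm (Fin.natAdd r j)) =
      Fin.cast (Nat.add_assoc r s t).symm (Fin.natAdd r (σ j)) := by
  simp [extLeft, Equiv.permCongr_apply, finCongr]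

theorem extLeft_fix (r s t : ℕ) (σ : Perm (Fin (s + t))) (x : Fin (r + s + t))
    (hx : x ∉ Set.range (fun j : Fin (s + t) => Fin.cast (Nat.add_assoc r s t).symm (Fin.natAdd r j))) :
    extLeft r s t σ x = x := by
  obtain ⟨y, rfl⟩ : ∃ y, Fin.cast (Nat.add_assoc r s t).symm y = x := ⟨Fin.cast (Nat.add_assoc r s t) x, rfl⟩
  induction y using Fin.addCases with
  | left i => simp [extLeft, Equiv.permCongr_apply, finCongr]
  | right j => exact absurd ⟨j, rfl⟩ hx

theorem bijOn_extLeft (r s t : ℕ) :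
    Set.BijOn (fun p : Perm (Fin (r + s + t)) × Perm (Fin (s + t)) => p.1 * extLeft r s t p.2)
      ({τ | IsShuffle₂ r (s + t) ((finCongr (Nat.add_assoc r s t)).permCongr τ)} ×ˢ {σ | IsShuffle₂ s t σ})
      {ν | IsShuffle₃ r s t ν} := by
  have h := bijOn_factor (N := r + s + t) (fun j : Fin (s + t) => Fin.cast (Nat.add_assoc r s t).symm (Fin.natAdd r j))
    (fun i j hij => by simpa [Fin.ext_iff] using hij) _ (extLeft_natAdd r s t) (extLeft_fix r s t)
    (Fin.castAdd t) (Fin.natAdd s) (fun i : Fin r => Fin.cast (Nat.add_assoc r s t).symm (Fin.castAdd (s + t) i))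
    (by rintro l ⟨i, hi⟩; have := congrArg Fin.val hi; simp at this; omega)
  have e1 : ∀ τ : Perm (Fin (r + s + t)),
      IsShuffle₂ r (s + t) ((finCongr (Nat.add_assoc r s t)).permCongr τ) ↔
        (Monotone (τ ∘ fun j : Fin (s + t) => Fin.cast (Nat.add_assoc r s t).symm (Fin.natAdd r j)) ∧
          Monotone (τ ∘ fun i : Fin r => Fin.cast (Nat.add_assoc r s t).symm (Fin.castAdd (s + t) i))) := by
    intro τ
    simp only [IsShuffle₂, Monotone, Equiv.permCongr_apply, finCongr, Function.comp_apply]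
    constructor <;> rintro ⟨h1, h2⟩ <;> exact ⟨fun a b hab => h2 hab, fun a b hab => h1 hab⟩
  have c1 : ∀ i : Fin r, Fin.cast (Nat.add_assoc r s t).symm (Fin.castAdd (s + t) i) = Fin.castAdd t (Fin.castAdd s i) :=
    fun i => by ext; simp
  have c2 : ∀ j : Fin s, Fin.cast (Nat.add_assoc r s t).symm (Fin.natAdd r (Fin.castAdd t j)) = Fin.castAdd t (Fin.natAdd r j) :=
    fun i => by ext; simp
  have c3 : ∀ l : Fin t, Fin.cast (Nat.add_assoc r s t).symm (Fin.natAdd r (Fin.natAdd s l)) = Fin.natAdd (r + s) l :=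
    fun i => by ext; simp [Nat.add_assoc]
  have s1 : ({τ | IsShuffle₂ r (s + t) ((finCongr (Nat.add_assoc r s t)).permCongr τ)} : Set (Perm (Fin (r + s + t)))) =
      {τ : Perm (Fin (r + s + t)) | Monotone (⇑τ ∘ fun j : Fin (s + t) => Fin.cast (Nat.add_assoc r s t).symm (Fin.natAdd r j)) ∧
          Monotone (⇑τ ∘ fun i : Fin r => Fin.cast (Nat.add_assoc r s t).symm (Fin.castAdd (s + t) i))} :=
    Set.ext e1
  have s3 : ({ν | IsShuffle₃ r s t ν} : Set (Perm (Fin (r + s + t)))) =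
      {ν : Perm (Fin (r + s + t)) | Monotone (⇑ν ∘ (fun j : Fin (s + t) => Fin.cast (Nat.add_assoc r s t).symm (Fin.natAdd r j)) ∘ Fin.castAdd t) ∧
        Monotone (⇑ν ∘ (fun j : Fin (s + t) => Fin.cast (Nat.add_assoc r s t).symm (Fin.natAdd r j)) ∘ Fin.natAdd s) ∧
          Monotone (⇑ν ∘ fun i : Fin r => Fin.cast (Nat.add_assoc r s t).symm (Fin.castAdd (s + t) i))} := by
    ext ν
    simp only [Set.mem_ofPred_eq, IsShuffle₃, Function.comp_def, c1, c2, c3]
    tauto
  rw [s1, s3]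
  exact h

end Groth.Agent.ShuffleLib
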